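import Groth.Agent.QC.Closure
import Mathlib.AlgebraicGeometry.Sites.SmallAffineZariski
import Mathlib.AlgebraicGeometry.Normalization

/-!
The relative spectrum of a quasi-coherent algebra: an affine morphism with the given direct image.
-/

set_option autoImplicit false
set_option backward.isDefEq.respectTransparency false

universe u

open CategoryTheory CategoryTheory.Limits AlgebraicGeometry TopologicalSpace Opposite

noncomputable section

namespace RelSpec

open Scheme Scheme.AffineZariskiSite Groth.Agent.QC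

variable {S : Scheme.{u}} (B : Sheaf (Opens.grothendieckTopology S) CommRingCat.{u}) (φ : S.sheaf ⟶ B)

/-- `B` as an `𝒪_S`-module. -/
abbrev asModule : S.Modules :=
  (SheafOfModules.restrictScalars
    ((sheafCompose (Opens.grothendieckTopology S) (forget₂ CommRingCat.{u} RingCat.{u})).map φ)).obj
    (SheafOfModules.unit
      ((sheafCompose (Opens.grothendieckTopology S) (forget₂ CommRingCat.{u} RingCat.{u})).obj B))

/-- `B` on affine opens. -/
abbrev diag : S.AffineZariskiSiteᵒᵖ ⥤ CommRingCat.{u} := (toOpensFunctor S).op ⋙ B.obj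

/-- The structure map on affine opens. -/
abbrev diagMap : (toOpensFunctor S).op ⋙ S.presheaf ⟶ diag B :=
  Functor.whiskerLeft (toOpensFunctor S).op φ.hom

lemma isLocalizationAway (hB : Coh.IsQCoh (asModule B φ)) (U : S.AffineZariskiSite)
    (r : Γ(S, U.1)) :
    letI := ((diag B).map (homOfLE (U.basicOpen_le r)).op).hom.toAlgebra
    IsLocalization.Away ((diagMap B φ).app (op U) r) ((diag B).obj (op (U.basicOpen r))) := by
  let := ((diag B).map (homOfLE (U.basicOpen_le r)).op).hom.toAlgebra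
  haveI : (asModule B φ).IsQuasicoherent := hB
  have hloc := isLoc_of_isQCoh (M := asModule B φ) U.2
  set v := (φ.hom.app (op U.1)).hom r with hv
  set ρ : B.obj.obj (op U.1) →+* B.obj.obj (op (S.basicOpen r)) :=
    (B.obj.map (homOfLE (S.basicOpen_le r)).op).hom with hρ
  have hρv : ρ v = (φ.hom.app (op (S.basicOpen r))).hom (resO S (S.basicOpen_le r) r) :=
    (congrArg (fun (χ : S.presheaf.obj (op U.1) ⟶ B.obj.obj (op (S.basicOpen r))) => χ.hom r)
      (φ.hom.naturality (homOfLE (S.basicOpen_le r)).op)).symm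
  refine ⟨⟨?_, ?_, ?_⟩⟩
  · rintro ⟨_, n, rfl⟩
    show IsUnit (ρ (v ^ n))
    rw [map_pow, hρv]
    refine (IsUnit.map _ ?_).pow n
    exact RingedSpace.isUnit_res_basicOpen _ r
  · intro (t : B.obj.obj (op (S.basicOpen r)))
    obtain ⟨n, s, hs⟩ := hloc.exists_extend r t
    refine ⟨⟨s, ⟨v ^ n, n, rfl⟩⟩, ?_⟩
    show (t : B.obj.obj (op (S.basicOpen r))) * ρ (v ^ n) = ρ s
    rw [map_pow, hρv]
    refine Eq.trans ?_ hs.symm
    change t * (φ.hom.app (op (S.basicOpen r))).hom (resO S (S.basicOpen_le r) r) ^ n =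
      (φ.hom.app (op (S.basicOpen r))).hom (resO S (S.basicOpen_le r) r ^ n) * t
    rw [map_pow, mul_comm]
  · intro (x : B.obj.obj (op U.1)) (y : B.obj.obj (op U.1)) hxy
    obtain ⟨n, hn⟩ := hloc.exists_pow_smul_eq_zero r (x - y) (by
      show ρ (x - y) = 0
      rw [map_sub, sub_eq_zero]
      exact hxy)
    refine ⟨⟨v ^ n, n, rfl⟩, ?_⟩
    show v ^ n * x = v ^ n * y
    rw [← sub_eq_zero, ← mul_sub, hv, ← map_pow]
    exact hn

variable (hB : Coh.IsQCoh (asModule B φ))

include hB in
lemma coequifibered : (diagMap B φ).Coequifibered :=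
  coequifibered_iff_forall_isLocalizationAway.mpr (isLocalizationAway B φ hB)

/-- The gluing data. -/
def data : (AffineZariskiSite.directedCover S).RelativeGluingData :=
  relativeGluingData (coequifibered B φ hB)

instance : ((data B φ hB).functor ⋙ Scheme.forget).IsLocallyDirected :=
  Cover.RelativeGluingData.instIsLocallyDirectedI₀CompFunctorForgetOfIsThin ..

/-- The relative spectrum. -/
def spec : Scheme.{u} := (data B φ hB).glued

/-- Its structure morphism. -/
def toBase : spec B φ hB ⟶ S := (data B φ hB).toBase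

/-- The charts. -/
def chart (U : S.AffineZariskiSite) : Spec ((diag B).obj (op U)) ⟶ spec B φ hB :=
  (data B φ hB).cover.f U

instance (U : S.AffineZariskiSite) : IsOpenImmersion (chart B φ hB U) :=
  (data B φ hB).cover.map_prop U

@[reassoc]
lemma chart_toBase (U : S.AffineZariskiSite) :
    chart B φ hB U ≫ toBase B φ hB = Spec.map (φ.hom.app (op U.1)) ≫ U.2.fromSpec := by
  refine (colimit.ι_desc _ U).trans ?_
  simp [data, relativeGluingData, IsAffineOpen.isoSpec_inv_ι]
  rfl

@[reassoc]
lemma map_chart {U V : S.AffineZariskiSite} (h : U ≤ V) :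
    Spec.map ((diag B).map (homOfLE h).op) ≫ chart B φ hB V = chart B φ hB U :=
  colimit.w (data B φ hB).functor (homOfLE h)

lemma preimage_eq_opensRange (U : S.AffineZariskiSite) :
    toBase B φ hB ⁻¹ᵁ U.1 = (chart B φ hB U).opensRange := by
  have := (data B φ hB).toBase_preimage_eq_opensRange_ι U
  simpa [toBase, chart] using! this

instance isAffineHom_toBase : IsAffineHom (toBase B φ hB) where
  isAffine_preimage U hU := by
    rw [preimage_eq_opensRange B φ hB ⟨U, hU⟩]
    exact isAffineOpen_opensRange _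

/-- Sections over the preimage of an affine open. -/
def objHom (U : S.AffineZariskiSite) :
    Γ(spec B φ hB, toBase B φ hB ⁻¹ᵁ U.1) ⟶ (diag B).obj (op U) :=
  (chart B φ hB U).appLE (toBase B φ hB ⁻¹ᵁ U.1) ⊤
    (fun x _ => (preimage_eq_opensRange B φ hB U).ge ⟨x, rfl⟩) ≫ (Scheme.ΓSpecIso _).hom

instance (U : S.AffineZariskiSite) : IsIso (objHom B φ hB U) := by
  have h := preimage_eq_opensRange B φ hB U
  have : IsIso ((chart B φ hB U).appLE (toBase B φ hB ⁻¹ᵁ U.1) ⊤
      (fun x _ => h.ge ⟨x, rfl⟩)) := by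
    have h2 : chart B φ hB U ⁻¹ᵁ (toBase B φ hB ⁻¹ᵁ U.1) = ⊤ := by
      rw [h, Scheme.Hom.preimage_opensRange]
    have := (chart B φ hB U).isIso_app (toBase B φ hB ⁻¹ᵁ U.1) h.le
    rw [Scheme.Hom.appLE]
    haveI : IsIso (homOfLE h2.ge) := ⟨homOfLE h2.le, Subsingleton.elim _ _, Subsingleton.elim _ _⟩
    haveI : IsIso (homOfLE h2.ge).op := inferInstance
    haveI : IsIso ((Spec ((diag B).obj (op U))).presheaf.map (homOfLE h2.ge).op) :=
      Functor.map_isIso _ _
    infer_instance
  rw [objHom]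
  infer_instance

lemma objHom_naturality {U V : S.AffineZariskiSite} (h : U ≤ V) :
    (spec B φ hB).presheaf.map
        (homOfLE ((toBase B φ hB).preimage_mono (toOpens_mono h))).op ≫ objHom B φ hB U =
      objHom B φ hB V ≫ (diag B).map (homOfLE h).op := by
  rw [objHom, objHom, Scheme.Hom.map_appLE_assoc, Category.assoc,
    ← Scheme.ΓSpecIso_naturality, ← Category.assoc]
  congr 1
  rw [Scheme.Hom.appTop, Scheme.Hom.app_eq_appLE]
  rw [Scheme.Hom.appLE_comp_appLE]
  congr 1
  exact (map_chart B φ hB h).symm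

lemma specMap_appLE_ΓSpecIso {R R' : CommRingCat.{u}} (χ : R ⟶ R')
    (e : (⊤ : (Spec R').Opens) ≤ Spec.map χ ⁻¹ᵁ ⊤) :
    (Spec.map χ).appLE ⊤ ⊤ e ≫ (Scheme.ΓSpecIso R').hom = (Scheme.ΓSpecIso R).hom ≫ χ := by
  rw [← Scheme.ΓSpecIso_naturality, Scheme.Hom.appTop, Scheme.Hom.app_eq_appLE]
  rfl

/-- The direct image of the structure sheaf is `B`. -/
def iso : B ≅ (TopCat.Sheaf.pushforward CommRingCat.{u} (toBase B φ hB).base).obj
    (spec B φ hB).sheaf :=
  Functor.IsCoverDense.sheafIso (G := toOpensFunctor S)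
    (NatIso.ofComponents (fun U => (asIso (objHom B φ hB U.unop)).symm) (fun {U V} i => by
      rw [Iso.symm_hom, Iso.symm_hom, asIso_inv, asIso_inv, IsIso.eq_inv_comp, ← Category.assoc,
        IsIso.comp_inv_eq]
      exact (objHom_naturality B φ hB (U := V.unop) (V := U.unop) (leOfHom i.unop)).symm))

lemma φ_comp_iso : (φ ≫ (iso B φ hB).hom).hom = (toBase B φ hB).c := by
  refine (Functor.IsCoverDense.restrictHomEquivHom (G := toOpensFunctor S)
    (K := Opens.grothendieckTopology S)
    (ℱ' := (TopCat.Sheaf.pushforward CommRingCat.{u} (toBase B φ hB).base).obj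
      (spec B φ hB).sheaf)).symm.injective ?_
  change Functor.whiskerLeft _ (φ.hom ≫ (iso B φ hB).hom.hom) =
    Functor.whiskerLeft _ (toBase B φ hB).c
  rw [Functor.whiskerLeft_comp, iso, Functor.IsCoverDense.sheafIso_hom_hom,
    Functor.IsCoverDense.presheafIso, asIso_hom, Functor.IsCoverDense.sheafHom_restrict_eq]
  ext1
  ext1 U
  obtain ⟨U⟩ := U
  change φ.hom.app (op U.1) ≫ inv (objHom B φ hB U) = (toBase B φ hB).app U.1
  rw [IsIso.comp_inv_eq, objHom, ← Category.assoc, Scheme.Hom.app_eq_appLE,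
    Scheme.Hom.appLE_comp_appLE]
  simp only [chart_toBase]
  rw [Scheme.Hom.comp_appLE, U.2.fromSpec_app_self, Category.assoc, Category.assoc,
    Scheme.Hom.map_appLE_assoc]
  exact (Iso.inv_hom_id_assoc _ _).symm.trans
    (congrArg _ (specMap_appLE_ΓSpecIso _ _).symm)

end RelSpec
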